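import Groth.Agent.Lib.Cohen.Structure
import Groth.Agent.Lib.GorFlat.Artinian
import Mathlib.RingTheory.Flat.Basic
import Mathlib.RingTheory.Smooth.Field
import Mathlib.FieldTheory.Perfect

/-!
# Artinian coefficient rings
-/

set_option autoImplicit false
set_option linter.style.haveILetI false
universe u

open IsLocalRing TensorProduct

namespace GrothLib.ArtFactor

/-- `q^N = 0` and the annihilator of `q^i` is generated by `q^(N-i)`. -/
structure IsExactPow (A : Type u) [CommRing A] (q N : ℕ) : Prop where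
  pow_eq : (q : A) ^ N = 0
  exact' : ∀ i ≤ N, ∀ a : A, (q : A) ^ i * a = 0 → ∃ b, a = (q : A) ^ (N - i) * b

/-- Maps from `W` lift along surjections with nilpotent kernel. -/
def Lifts (W : Type u) [CommRing W] (q N : ℕ) : Prop :=
  ∀ (A B : Type u) [CommRing A] [IsLocalRing A] [CommRing B] (π : A →+* B), Function.Surjective π →
    IsNilpotent (RingHom.ker π) → (q : A) ^ N = 0 → CharP (ResidueField A) q →
      ∀ g : W →+* B, ∃ h : W →+* A, π.comp h = g

/-- An Artinian coefficient ring. -/
structure IsCoef (W : Type u) [CommRing W] [IsLocalRing W] (q N : ℕ) : Prop where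
  one_le : 1 ≤ N
  isArtinian : IsArtinianRing W
  maximal : maximalIdeal W = Ideal.span {(q : W)}
  ne_zero : (q : W) ^ (N - 1) ≠ 0
  exact_pow : IsExactPow W q N
  lifts : Lifts W q N

variable {W : Type u} [CommRing W] [IsLocalRing W] {q N : ℕ}

theorem IsCoef.socCyclic (h : IsCoef W q N) : GorFlat.SocCyclic W := by
  refine ⟨(q : W) ^ (N - 1), h.ne_zero, fun a ha => ?_, fun z hz => ?_⟩
  · rw [h.maximal, Ideal.mem_span_singleton'] at ha
    obtain ⟨c, rfl⟩ := ha
    rw [mul_assoc, ← pow_succ', Nat.sub_add_cancel h.one_le, h.exact_pow.pow_eq, mul_zero]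
  · obtain ⟨b, hb⟩ := h.exact_pow.exact' 1 h.one_le z (by
      rw [pow_one]
      exact hz _ (h.maximal ▸ Ideal.mem_span_singleton_self _))
    exact ⟨b, by rw [hb, mul_comm]⟩

theorem IsCoef.exists_eq (h : IsCoef W q N) (x : W) : x = 0 ∨ ∃ j u, IsUnit u ∧ x = u * (q : W) ^ j := by
  classical
  by_cases hx : x = 0
  · exact Or.inl hx
  have hex : ∃ j, x ∉ Ideal.span {(q : W) ^ j} := ⟨N, by simp [h.exact_pow.pow_eq, hx]⟩
  have hj : Nat.find hex ≠ 0 := fun h0 => by
    have := Nat.find_spec hex
    rw [h0, pow_zero, Ideal.span_singleton_one] at this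
    exact this trivial
  obtain ⟨j, hj⟩ := Nat.exists_eq_succ_of_ne_zero hj
  obtain ⟨u, hu⟩ := Ideal.mem_span_singleton'.1 (not_not.1 (Nat.find_min hex (hj ▸ Nat.lt_succ_self j)))
  refine Or.inr ⟨j, u, ?_, hu.symm⟩
  by_contra hnu
  have : u ∈ maximalIdeal W := hnu
  rw [h.maximal, Ideal.mem_span_singleton'] at this
  obtain ⟨c, rfl⟩ := this
  exact Nat.find_spec hex (hj.symm ▸ Ideal.mem_span_singleton'.2 ⟨c, by rw [← hu, pow_succ]; ring⟩)

/-- A module over a coefficient ring with exact multiplication by powers of `q` is flat. -/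
theorem IsCoef.flat (h : IsCoef W q N) (T : Type u) [CommRing T] [Algebra W T]
    (hT : IsExactPow T q N) : Module.Flat W T := by
  classical
  rw [Module.Flat.iff_lTensor_injective']
  intro I
  have hex : ∃ i, (q : W) ^ i ∈ I := ⟨N, by rw [h.exact_pow.pow_eq]; exact zero_mem I⟩
  let g : I := ⟨_, Nat.find_spec hex⟩
  have hiN : Nat.find hex ≤ N := Nat.find_min' hex (by rw [h.exact_pow.pow_eq]; exact zero_mem I)
  have hgen : ∀ a : I, ∃ c : W, a = c • g := by
    rintro ⟨x, hx⟩
    rcases h.exists_eq x with rfl | ⟨j, u, hu, rfl⟩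
    · exact ⟨0, by ext; simp⟩
    · obtain ⟨e, he⟩ := Nat.exists_eq_add_of_le (Nat.find_min' hex ((Ideal.unit_mul_mem_iff_mem I hu).1 hx))
      exact ⟨u * (q : W) ^ e, Subtype.ext (by simp [g, he, pow_add]; ring_nf)⟩
  have hall : ∀ z : T ⊗[W] I, ∃ t, z = t ⊗ₜ g := fun z => by
    induction z using TensorProduct.induction_on with
    | zero => exact ⟨0, by simp⟩
    | add a b ha hb =>
      obtain ⟨s, rfl⟩ := ha
      obtain ⟨t, rfl⟩ := hb
      exact ⟨s + t, by rw [add_tmul]⟩
    | tmul t a =>
      obtain ⟨c, rfl⟩ := hgen a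
      exact ⟨c • t, by rw [TensorProduct.smul_tmul]⟩
  refine (injective_iff_map_eq_zero _).2 fun z hz => ?_
  obtain ⟨t, rfl⟩ := hall z
  have h0 : (q : T) ^ Nat.find hex * t = 0 := by
    have := congrArg (TensorProduct.rid W T) hz
    simpa [g, Algebra.smul_def] using this
  obtain ⟨b, rfl⟩ := hT.exact' _ hiN t h0
  have e : (q : T) ^ (N - Nat.find hex) * b = (q : W) ^ (N - Nat.find hex) • b := by
    simp [Algebra.smul_def]
  rw [e, TensorProduct.smul_tmul]
  have hg0 : (q : W) ^ (N - Nat.find hex) • g = 0 := Subtype.ext (by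
    simp only [g, SetLike.val_smul, smul_eq_mul, ZeroMemClass.coe_zero]
    rw [← pow_add, Nat.sub_add_cancel hiN, h.exact_pow.pow_eq])
  rw [hg0, tmul_zero]

/-- Coefficient rings exist. -/
theorem exists_coef (k : Type u) [Field k] (q N : ℕ) [CharP k q] (hN : 1 ≤ N) (h0 : q = 0 → N = 1) :
    ∃ (W : Type u) (_ : CommRing W) (_ : IsLocalRing W),
      IsCoef W q N ∧ Nonempty (ResidueField W ≃+* k) := by
  rcases CharP.char_is_prime_or_zero k q with hp | rfl
  · obtain ⟨Λ, _, _, hΛ, ⟨e⟩⟩ := Cohen.exists_cohenRing q hp k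
    obtain ⟨hd, hv, -, p, hp', hm⟩ := hΛ
    have hqp : p = q := by
      have h1 : (p : k) = 0 := by
        rw [← map_natCast e, ← map_natCast (residue Λ), (residue_eq_zero_iff _).2
          (hm ▸ Ideal.subset_span rfl), map_zero]
      exact ((Nat.prime_dvd_prime_iff_eq hp hp').1 ((CharP.cast_eq_zero_iff k q p).1 h1)).symm
    subst hqp
    haveI := Cohen.charZero_of_maximalIdeal_eq_span Λ p hp' hm
    have hp0 : (p : Λ) ≠ 0 := Nat.cast_ne_zero.2 hp'.ne_zero
    let I : Ideal Λ := Ideal.span {((p : Λ) ^ N)}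
    have hI : I ≤ maximalIdeal Λ := by
      rw [hm, Ideal.span_singleton_le_iff_mem]
      exact Ideal.pow_mem_of_mem _ (Ideal.mem_span_singleton_self _) N (by omega)
    let W := Λ ⧸ I
    haveI : Nontrivial W := Ideal.Quotient.nontrivial_iff.2 (ne_top_of_le_ne_top (maximalIdeal.isMaximal Λ).ne_top hI)
    haveI : IsLocalRing W := IsLocalRing.of_surjective' (Ideal.Quotient.mk I) Ideal.Quotient.mk_surjective
    haveI : IsLocalHom (Ideal.Quotient.mk I) := IsLocalHom.of_surjective _ Ideal.Quotient.mk_surjective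
    have hmW : maximalIdeal W = Ideal.span {(p : W)} := by
      rw [← map_maximalIdeal_of_surjective (Ideal.Quotient.mk I) Ideal.Quotient.mk_surjective, hm,
        Ideal.map_span, Set.image_singleton, map_natCast]
    have hpow : (p : W) ^ N = 0 := by
      rw [← map_natCast (Ideal.Quotient.mk I), ← map_pow, Ideal.Quotient.eq_zero_iff_mem]
      exact Ideal.mem_span_singleton_self _
    haveI : IsArtinianRing W := by
      haveI : IsNoetherianRing W := isNoetherianRing_of_surjective Λ W _ Ideal.Quotient.mk_surjective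
      refine (isArtinianRing_iff_isNilpotent_maximalIdeal W).2 ⟨N, ?_⟩
      rw [hmW, Ideal.span_singleton_pow, hpow, Ideal.zero_eq_bot, Ideal.span_singleton_eq_bot]
    refine ⟨W, inferInstance, inferInstance, ⟨hN, inferInstance, hmW, fun h => ?_, ⟨hpow, fun i hi a ha => ?_⟩, ?_⟩, ?_⟩
    · rw [← map_natCast (Ideal.Quotient.mk I), ← map_pow, Ideal.Quotient.eq_zero_iff_mem,
        Ideal.mem_span_singleton, pow_dvd_pow_iff hp0 (fun hu => (maximalIdeal.isMaximal Λ).ne_top
          (hm ▸ Ideal.span_singleton_eq_top.2 hu))] at h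
      omega
    · obtain ⟨x, rfl⟩ := Ideal.Quotient.mk_surjective a
      rw [← map_natCast (Ideal.Quotient.mk I), ← map_pow, ← map_mul, Ideal.Quotient.eq_zero_iff_mem,
        Ideal.mem_span_singleton'] at ha
      obtain ⟨c, hc⟩ := ha
      refine ⟨Ideal.Quotient.mk I c, ?_⟩
      rw [← map_natCast (Ideal.Quotient.mk I), ← map_pow, ← map_mul]
      congr 1
      refine mul_left_cancel₀ (pow_ne_zero i hp0) ?_
      rw [← hc, ← mul_assoc, ← pow_add, Nat.add_sub_cancel' hi, mul_comm]
    · intro A B _ _ _ π hπ hnil hA _ g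
      have hAz : ((p ^ N : ℕ) : A) = 0 := by rw [Nat.cast_pow, hA]
      have hBz : ((p ^ N : ℕ) : B) = 0 := by rw [← map_natCast π, hAz, map_zero]
      have hWz : ((p ^ N : ℕ) : W) = 0 := by rw [Nat.cast_pow, hpow]
      letI : Algebra (ZMod (p ^ N)) W := (Cohen.zmodHom _ _ hWz).toAlgebra
      letI : Algebra (ZMod (p ^ N)) A := (Cohen.zmodHom _ _ hAz).toAlgebra
      letI : Algebra (ZMod (p ^ N)) B := (Cohen.zmodHom _ _ hBz).toAlgebra
      haveI : Algebra.FormallySmooth (ZMod (p ^ N)) W :=
        Cohen.formallySmooth_zmod_pow Λ p hp' (hm ▸ maximalIdeal.isMaximal Λ) N hN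
      let g' : W →ₐ[ZMod (p ^ N)] B := { g with
        commutes' := fun z => RingHom.congr_fun
          (RingHom.ext_zmod (g.comp (algebraMap _ W)) (algebraMap _ B)) z }
      let π' : A →ₐ[ZMod (p ^ N)] B := { π with
        commutes' := fun z => RingHom.congr_fun
          (RingHom.ext_zmod (π.comp (algebraMap _ A)) (algebraMap _ B)) z }
      exact ⟨(Algebra.FormallySmooth.liftOfSurjective g' π' hπ hnil).toRingHom, RingHom.ext fun x =>
        Algebra.FormallySmooth.liftOfSurjective_apply g' π' hπ hnil x⟩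
    · let F : Λ →+* k := e.toRingHom.comp (residue Λ)
      haveI : IsLocalHom (residue Λ) := IsLocalHom.of_surjective _ residue_surjective
      exact ⟨(RingEquiv.ofBijective (ResidueField.map (Ideal.Quotient.mk I))
        ⟨(ResidueField.map (Ideal.Quotient.mk I)).injective, fun y => by
          obtain ⟨y, rfl⟩ := residue_surjective y
          obtain ⟨y, rfl⟩ := Ideal.Quotient.mk_surjective y
          exact ⟨residue Λ y, ResidueField.map_residue _ _⟩⟩).symm.trans e⟩
  · obtain rfl := h0 rfl
    haveI : CharZero k := CharP.charP_to_charZero k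
    refine ⟨k, inferInstance, inferInstance, ⟨le_rfl, inferInstance, ?_, by simp, ⟨by simp, ?_⟩, ?_⟩, ?_⟩
    · rw [Nat.cast_zero, Ideal.span_singleton_eq_bot.2 rfl, isField_iff_maximalIdeal_eq.1 (Field.toIsField k)]
    · intro i hi a ha
      rcases Nat.le_one_iff_eq_zero_or_eq_one.1 hi with rfl | rfl
      · exact ⟨0, by simpa using ha⟩
      · exact ⟨a, by simp⟩
    · intro A B _ _ _ π hπ hnil _ hA g
      haveI : CharZero (ResidueField A) := CharP.charP_to_charZero _
      obtain ⟨halg⟩ := GrothLib.CoeffField.nonempty_algebra_rat A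
      letI := halg
      letI : Algebra (ULift.{u} ℚ) B := (π.comp (algebraMap (ULift.{u} ℚ) A)).toAlgebra
      let eQ : ULift.{u} ℚ ≃+* ℚ := ULift.ringEquiv
      haveI : CharZero (ULift.{u} ℚ) :=
        charZero_of_injective_ringHom (f := eQ.symm.toRingHom) eQ.symm.injective
      letI : Algebra (ULift.{u} ℚ) k := ((algebraMap ℚ k).comp eQ.toRingHom).toAlgebra
      haveI : Algebra.FormallySmooth (ULift.{u} ℚ) k := GrothLib.SepField.formallySmooth_of_charZero
      let π' : A →ₐ[ULift.{u} ℚ] B := { π with commutes' := fun z => rfl }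
      let g' : k →ₐ[ULift.{u} ℚ] B := { g with
        commutes' := fun z => by
          have h := RingHom.congr_fun (Subsingleton.elim
            ((g.comp (algebraMap (ULift.{u} ℚ) k)).comp eQ.symm.toRingHom)
            ((algebraMap (ULift.{u} ℚ) B).comp eQ.symm.toRingHom)) (eQ z)
          simp only [RingHom.comp_apply, RingEquiv.toRingHom_eq_coe, RingEquiv.coe_toRingHom,
            RingEquiv.symm_apply_apply] at h
          exact h }
      exact ⟨(Algebra.FormallySmooth.liftOfSurjective g' π' hπ hnil).toRingHom, RingHom.ext fun x =>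
        Algebra.FormallySmooth.liftOfSurjective_apply g' π' hπ hnil x⟩
    · exact ⟨(RingEquiv.ofBijective (residue k) ⟨(residue k).injective, residue_surjective⟩).symm⟩

end GrothLib.ArtFactor
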