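import Groth.Agent.Lib.ArtFactor.Coef
import Mathlib.RingTheory.AdjoinRoot
import Mathlib.RingTheory.Nilpotent.Lemmas

/-!
# Gorenstein Artinian covers of Artinian local rings
-/

set_option autoImplicit false
set_option linter.style.haveILetI false
universe u

open IsLocalRing Polynomial

namespace GrothLib.ArtFactor

/-- A subring containing residue lifts and generators of a nilpotent maximal ideal is everything. -/
theorem subring_eq_top {S : Type u} [CommRing S] [IsArtinianRing S] [IsLocalRing S] (A : Subring S)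
    (hres : ∀ x : S, ∃ a ∈ A, x - a ∈ maximalIdeal S) {n : ℕ} (y : Fin n → S)
    (hy : Ideal.span (Set.range y) = maximalIdeal S) (hyA : ∀ i, y i ∈ A) : A = ⊤ := by
  have step : ∀ (j : ℕ) (x : S), ∃ a ∈ A, x - a ∈ maximalIdeal S ^ j := by
    intro j
    induction j with
    | zero => exact fun x => ⟨0, zero_mem A, by simp⟩
    | succ j ih =>
      intro x
      obtain ⟨a, ha, hxa⟩ := hres x
      obtain ⟨c, hc⟩ := (Ideal.mem_span_range_iff_exists_fun).1 (hy.ge hxa)
      choose b hb hcb using fun i => ih (c i)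
      refine ⟨a + ∑ i, b i * y i, add_mem ha (sum_mem fun i _ => mul_mem (hb i) (hyA i)), ?_⟩
      have e : x - (a + ∑ i, b i * y i) = ∑ i, (c i - b i) * y i := by
        rw [← sub_sub, ← hc, ← Finset.sum_sub_distrib]
        simp_rw [sub_mul]
      rw [e, pow_succ]
      exact sum_mem fun i _ => Ideal.mul_mem_mul (hcb i) (hy ▸ Ideal.subset_span ⟨i, rfl⟩)
  obtain ⟨N, hN⟩ := (isArtinianRing_iff_isNilpotent_maximalIdeal S).1 inferInstance
  refine eq_top_iff.2 fun x _ => ?_
  obtain ⟨a, ha, hxa⟩ := step N x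
  rw [hN, Ideal.zero_eq_bot, Ideal.mem_bot, sub_eq_zero] at hxa
  exact hxa ▸ ha

/-- A ring surjecting with nilpotent kernel onto a local ring is local. -/
theorem isLocalRing_of_nilpotent_ker {A B : Type u} [CommRing A] [CommRing B] [IsLocalRing B]
    (f : A →+* B) (hf : Function.Surjective f) (h : ∀ a, f a = 0 → IsNilpotent a) : IsLocalRing A := by
  haveI : Nontrivial A := f.domain_nontrivial
  refine IsLocalRing.of_isUnit_or_isUnit_one_sub_self fun a => ?_
  have hu : ∀ a, IsUnit (f a) → IsUnit a := fun a ha => by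
    obtain ⟨b, hb⟩ := hf ↑ha.unit⁻¹
    have h1 : f (a * b - 1) = 0 := by rw [map_sub, map_mul, hb, IsUnit.mul_val_inv, map_one, sub_self]
    have h2 := (h _ h1).isUnit_add_one
    rw [sub_add_cancel] at h2
    exact isUnit_of_mul_isUnit_left h2
  rcases IsLocalRing.isUnit_or_isUnit_one_sub_self (f a) with h1 | h1
  · exact Or.inl (hu _ h1)
  · exact Or.inr (hu _ (by rwa [map_sub, map_one]))

variable {S : Type u} [CommRing S] [IsArtinianRing S] [IsLocalRing S] {q N : ℕ}

/-- An Artinian Gorenstein ring with exact powers of `q` mapping to `S`. -/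
def HasCover (q N : ℕ) {n : ℕ} (y : Fin n → S) : Prop :=
  ∃ (T : Type u) (_ : CommRing T) (_ : IsLocalRing T) (g : T →+* S), IsArtinianRing T ∧
    GorFlat.SocCyclic T ∧ IsExactPow T q N ∧ (∀ x : S, ∃ t, x - g t ∈ maximalIdeal S) ∧
    ∀ i, y i ∈ g.range

omit [IsArtinianRing S] in
theorem hasCover_succ {n : ℕ} (y : Fin (n + 1) → S) {M : ℕ} (hM : 1 ≤ M)
    (hy : y (Fin.last n) ^ M = 0) (h : HasCover q N (fun i => y i.castSucc)) : HasCover q N y := by
  classical
  obtain ⟨T, _, _, g, hart, ⟨s, hs, hms, hgs⟩, hex, hres, hrange⟩ := h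
  let f : T[X] := X ^ M
  have hf : f.Monic := monic_X_pow M
  let T' := AdjoinRoot f
  have hmk0 : ∀ p : T[X], AdjoinRoot.mk f p = 0 ↔ ∀ i < M, p.coeff i = 0 := fun p =>
    AdjoinRoot.mk_eq_zero.trans X_pow_dvd_iff
  let ε : T' →+* T := AdjoinRoot.lift (RingHom.id T) 0 (by simp [f, zero_pow (by omega : M ≠ 0)])
  have hεmk : ∀ p, ε (AdjoinRoot.mk f p) = p.coeff 0 := fun p => by
    rw [show ε (AdjoinRoot.mk f p) = p.eval₂ (RingHom.id T) 0 from AdjoinRoot.lift_mk _ p,
      coeff_zero_eq_eval_zero]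
    rfl
  have hεof : ∀ t, ε (AdjoinRoot.of f t) = t := fun t => AdjoinRoot.lift_of _
  have hε : ∀ z, ε z = 0 → IsNilpotent z := fun z hz => by
    obtain ⟨p, rfl⟩ := AdjoinRoot.mk_surjective z
    rw [hεmk, ← X_dvd_iff] at hz
    obtain ⟨r, rfl⟩ := hz
    refine ⟨M, ?_⟩
    rw [← map_pow, AdjoinRoot.mk_eq_zero, mul_pow]
    exact dvd_mul_right _ _
  haveI : IsLocalRing T' :=
    isLocalRing_of_nilpotent_ker ε (fun t => ⟨AdjoinRoot.of f t, hεof t⟩) hε
  haveI : IsLocalHom ε := IsLocalHom.of_surjective _ fun t => ⟨AdjoinRoot.of f t, hεof t⟩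
  have hmem : ∀ p : T[X], p.coeff 0 ∈ maximalIdeal T → AdjoinRoot.mk f p ∈ maximalIdeal T' := by
    intro p hp hu
    exact hp (hεmk p ▸ hu.map ε)
  haveI : Module.Finite T T' := hf.finite_adjoinRoot
  haveI : IsArtinianRing T' := IsArtinianRing.of_finite T T'
  let g' : T' →+* S := AdjoinRoot.lift g (y (Fin.last n)) (by simpa [f] using hy)
  refine ⟨T', inferInstance, inferInstance, g', inferInstance, ?_, ⟨?_, ?_⟩, fun x => ?_, fun i => ?_⟩
  · refine ⟨AdjoinRoot.mk f (C s * X ^ (M - 1)), fun h0 => hs ?_, fun a ha => ?_, fun z hz => ?_⟩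
    · simpa using (hmk0 _).1 h0 (M - 1) (by omega)
    · obtain ⟨p, rfl⟩ := AdjoinRoot.mk_surjective a
      have hp : p.coeff 0 ∈ maximalIdeal T := fun hu => ha (by
        rw [← isUnit_map_iff ε, hεmk]; exact hu)
      rw [← map_mul, hmk0]
      intro i hi
      rw [show p * (C s * X ^ (M - 1)) = C s * p * X ^ (M - 1) by ring, coeff_mul_X_pow']
      split_ifs with hle
      · rw [coeff_C_mul, show i - (M - 1) = 0 by omega, mul_comm]
        exact hms _ hp
      · rfl
    · obtain ⟨p, rfl⟩ := AdjoinRoot.mk_surjective z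
      have hX := hz _ (hmem X (by simp))
      rw [← map_mul, hmk0] at hX
      have hlow : ∀ i < M - 1, p.coeff i = 0 := fun i hi => by
        simpa [coeff_X_mul] using hX (i + 1) (by omega)
      obtain ⟨c, hc⟩ := hgs (p.coeff (M - 1)) fun a ha => by
        have := hz _ (hmem (C a) (by simpa using ha))
        rw [← map_mul, hmk0] at this
        simpa using this (M - 1) (by omega)
      refine ⟨AdjoinRoot.mk f (C c), ?_⟩
      rw [← map_mul, ← sub_eq_zero, ← map_sub, hmk0]
      intro i hi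
      rw [coeff_sub, ← mul_assoc, ← C_mul, coeff_C_mul_X_pow]
      split_ifs with he
      · subst he; rw [hc, sub_self]
      · rw [hlow i (by omega), sub_zero]
  · rw [← map_natCast (AdjoinRoot.of f), ← map_pow, hex.pow_eq, map_zero]
  · intro i hi a ha
    obtain ⟨p, rfl⟩ := AdjoinRoot.mk_surjective a
    rw [← map_natCast (AdjoinRoot.mk f), ← map_pow, ← map_mul, hmk0] at ha
    have h1 : ∀ e, ∃ d, e < M → p.coeff e = (q : T) ^ (N - i) * d := fun e => by
      by_cases he : e < M
      · have := ha e he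
        rw [← C_eq_natCast, ← C_pow, coeff_C_mul] at this
        obtain ⟨d, hd⟩ := hex.exact' i hi _ this
        exact ⟨d, fun _ => hd⟩
      · exact ⟨0, fun h => absurd h he⟩
    choose d hd using h1
    refine ⟨AdjoinRoot.mk f (∑ e ∈ Finset.range M, C (d e) * X ^ e), ?_⟩
    rw [← map_natCast (AdjoinRoot.mk f), ← map_pow, ← map_mul, ← sub_eq_zero, ← map_sub, hmk0]
    intro e he
    rw [← C_eq_natCast, ← C_pow, coeff_sub, coeff_C_mul, finsetSum_coeff]
    simp [coeff_C_mul_X_pow, Finset.mem_range.2 he, hd e he]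
  · obtain ⟨t, ht⟩ := hres x
    exact ⟨AdjoinRoot.of f t, by rwa [show g' (AdjoinRoot.of f t) = g t from AdjoinRoot.lift_of _]⟩
  · induction i using Fin.lastCases with
    | last => exact ⟨AdjoinRoot.root f, AdjoinRoot.lift_root _⟩
    | cast j =>
      obtain ⟨t, ht⟩ := hrange j
      exact ⟨AdjoinRoot.of f t, (AdjoinRoot.lift_of _).trans ht⟩

theorem hasCover (h0 : HasCover (S := S) q N (fun i : Fin 0 => i.elim0)) :
    ∀ {n : ℕ} (y : Fin n → S), (∀ i, y i ∈ maximalIdeal S) → HasCover q N y := by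
  intro n
  induction n with
  | zero => intro y _; rwa [Subsingleton.elim y (fun i : Fin 0 => i.elim0)]
  | succ n ih =>
    intro y hy
    obtain ⟨M, hM⟩ := (isArtinianRing_iff_isNilpotent_maximalIdeal S).1 inferInstance
    refine hasCover_succ y (M := M + 1) (by omega) ?_ (ih _ fun i => hy _)
    have := Ideal.pow_mem_pow (hy (Fin.last n)) M
    rw [hM, Ideal.zero_eq_bot, Ideal.mem_bot] at this
    rw [pow_succ, this, zero_mul]

end GrothLib.ArtFactor
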