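import Groth.Agent.Lib.ArtFactor.Cover
import Groth.Agent.Lib.GorFlat.Main
import Mathlib.RingTheory.TensorProduct.Maps
import Mathlib.RingTheory.Polynomial.Basic
import Mathlib.RingTheory.Flat.Stability

/-!
# Factorisation of a local homomorphism of Artinian local rings
-/

set_option autoImplicit false
set_option linter.style.haveILetI false
universe u

open IsLocalRing TensorProduct

namespace GrothLib.ArtFactor

theorem exists_factorization (R S : Type u) [CommRing R] [CommRing S] [IsArtinianRing R] [IsLocalRing R]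
    [IsArtinianRing S] [IsLocalRing S] [Algebra R S] [IsLocalHom (algebraMap R S)] :
    ∃ (R' : Type u) (_ : CommRing R') (_ : Algebra R R'), IsArtinianRing R' ∧ IsLocalRing R' ∧
      Module.Flat R R' ∧ IsLocalHom (algebraMap R R') ∧
      LocCoh.IsGorensteinLocalRing (R' ⧸ (maximalIdeal R).map (algebraMap R R')) ∧
      ∃ g : R' →ₐ[R] S, Function.Surjective g := by
  classical
  obtain ⟨q, hq⟩ := CharP.exists (ResidueField R)
  haveI : CharP (ResidueField S) q :=
    charP_of_injective_ringHom (ResidueField.map (algebraMap R S)).injective q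
  obtain ⟨N, hN, hN0, hqR⟩ : ∃ N, 1 ≤ N ∧ (q = 0 → N = 1) ∧ (q : R) ^ N = 0 := by
    by_cases h : q = 0
    · exact ⟨1, le_rfl, fun _ => rfl, by simp [h]⟩
    · obtain ⟨e, he⟩ := (isArtinianRing_iff_isNilpotent_maximalIdeal R).1 inferInstance
      have hqm : (q : R) ∈ maximalIdeal R := by
        rw [← residue_eq_zero_iff, map_natCast, CharP.cast_eq_zero]
      have := Ideal.pow_mem_pow hqm (e + 1)
      rw [pow_succ (maximalIdeal R) e, he, Ideal.zero_eq_bot, Ideal.bot_mul, Ideal.mem_bot] at this
      exact ⟨e + 1, by omega, fun h' => absurd h' h, this⟩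
  have hqS : (q : S) ^ N = 0 := by rw [← map_natCast (algebraMap R S), ← map_pow, hqR, map_zero]
  have hnil : ∀ (A : Type u) [CommRing A] [IsArtinianRing A] [IsLocalRing A],
      IsNilpotent (RingHom.ker (residue A)) := fun A _ _ _ => by
    rw [IsLocalRing.ker_residue]
    exact (isArtinianRing_iff_isNilpotent_maximalIdeal A).1 inferInstance
  obtain ⟨W, _, _, hW, ⟨eW⟩⟩ := exists_coef (ResidueField R) q N hN hN0
  obtain ⟨V, _, _, hV, ⟨eV⟩⟩ := exists_coef (ResidueField S) q N hN hN0
  obtain ⟨hR, hhR⟩ := hW.lifts R _ (residue R) residue_surjective (hnil R) hqR inferInstance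
    (eW.toRingHom.comp (residue W))
  obtain ⟨hS, hhS⟩ := hV.lifts S _ (residue S) residue_surjective (hnil S) hqS inferInstance
    (eV.toRingHom.comp (residue V))
  -- generators of the maximal ideals
  obtain ⟨n, y, hy⟩ := Submodule.fg_iff_exists_fin_generating_family.1
    (IsNoetherian.noetherian (maximalIdeal S))
  obtain ⟨T, _, _, g, hT, hsoc, hex, hres, hrange⟩ :=
    hasCover (S := S) (q := q) (N := N) ⟨V, inferInstance, inferInstance, hS, hV.isArtinian,
      hV.socCyclic, hV.exact_pow, fun x => by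
        obtain ⟨v, hv⟩ := (eV.surjective.comp residue_surjective) (residue S x)
        refine ⟨v, ?_⟩
        rw [← residue_eq_zero_iff, map_sub, sub_eq_zero, ← hv]
        exact (RingHom.congr_fun hhS v).symm,
      fun i => i.elim0⟩ y fun i => by rw [← hy]; exact Submodule.subset_span ⟨i, rfl⟩
  haveI := hT
  have hg : Function.Surjective g := by
    have := subring_eq_top g.range (fun x => by
      obtain ⟨t, ht⟩ := hres x
      exact ⟨g t, ⟨t, rfl⟩, ht⟩) y hy hrange
    exact RingHom.range_eq_top.1 this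
  haveI : IsLocalHom g := IsLocalHom.of_surjective g hg
  haveI : CharP (ResidueField T) q := by
    haveI := (RingHom.charP_iff_charP (ResidueField.map g) q).2 inferInstance
    infer_instance
  have hgnil : IsNilpotent (RingHom.ker g) := by
    obtain ⟨e, he⟩ := (isArtinianRing_iff_isNilpotent_maximalIdeal T).1 inferInstance
    exact ⟨e, le_bot_iff.1 ((Ideal.pow_right_mono (le_maximalIdeal (RingHom.ker_ne_top g)) e).trans he.le)⟩
  obtain ⟨hT', hhT⟩ := hW.lifts T S g hg hgnil hex.pow_eq inferInstance ((algebraMap R S).comp hR)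
  letI : Algebra W R := hR.toAlgebra
  letI : Algebra W T := hT'.toAlgebra
  letI : Algebra W S := ((algebraMap R S).comp hR).toAlgebra
  haveI : IsScalarTower W R S := IsScalarTower.of_algebraMap_eq fun _ => rfl
  let gT : T →ₐ[W] S := { g with commutes' := fun w => RingHom.congr_fun hhT w }
  haveI := hW.flat T hex
  haveI := hW.isArtinian
  have hqW : (q : W) ∈ maximalIdeal W := hW.maximal ▸ Ideal.mem_span_singleton_self _
  have hqT : (q : T) ∈ maximalIdeal T := fun hu =>
    not_isUnit_zero (hex.pow_eq ▸ hu.pow N)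
  haveI : IsLocalHom (algebraMap W T) := ((IsLocalRing.local_hom_TFAE _).out 0 2).2 (by
    rw [hW.maximal, Ideal.map_span, Set.image_singleton, map_natCast, Ideal.span_singleton_le_iff_mem]
    exact hqT)
  haveI : LocCoh.IsGorensteinLocalRing T := GorFlat.gorenstein_of_socCyclic hsoc
  have hGF : LocCoh.IsGorensteinLocalRing (T ⧸ (maximalIdeal W).map (algebraMap W T)) :=
    ((GorFlat.gorenstein_flat_local_iff W T).1 inferInstance).2
  -- the fibre map
  let F := T ⧸ (maximalIdeal W).map (algebraMap W T)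
  haveI : IsLocalRing F := GorFlat.isLocalRing_quot (GorFlat.map_maximalIdeal_le W T)
  let ρ : W →+* ResidueField R := eW.toRingHom.comp (residue W)
  have hρ : Function.Surjective ρ := eW.surjective.comp residue_surjective
  let μ : W →+* F := (Ideal.Quotient.mk _).comp (algebraMap W T)
  have hμ : RingHom.ker ρ ≤ RingHom.ker μ := fun w hw => by
    have : residue W w = 0 := eW.injective ((RingHom.mem_ker.1 hw).trans (map_zero eW).symm)
    exact Ideal.Quotient.eq_zero_iff_mem.2 (Ideal.mem_map_of_mem _ ((residue_eq_zero_iff _).1 this))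
  let χ : R →+* F := (ρ.liftOfSurjective hρ ⟨μ, hμ⟩).comp (residue R)
  have hχ : ∀ w, χ (hR w) = μ w := fun w => by
    show ρ.liftOfSurjective hρ ⟨μ, hμ⟩ (residue R (hR w)) = μ w
    rw [show residue R (hR w) = ρ w from RingHom.congr_fun hhR w]
    exact RingHom.liftOfSurjective_comp_apply ρ hρ ⟨μ, hμ⟩ w
  have hχm : ∀ a ∈ maximalIdeal R, χ a = 0 := fun a ha => by
    show ρ.liftOfSurjective hρ ⟨μ, hμ⟩ (residue R a) = 0
    rw [(residue_eq_zero_iff a).2 ha, map_zero]
  let χₐ : R →ₐ[W] F := { χ with commutes' := fun w => hχ w }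
  let ψ : R ⊗[W] T →ₐ[W] F :=
    Algebra.TensorProduct.lift χₐ (Ideal.Quotient.mkₐ W _) fun _ _ => Commute.all _ _
  have hψ : ∀ a t, ψ (a ⊗ₜ[W] t) = χ a * Ideal.Quotient.mk _ t := fun a t => by
    rw [Algebra.TensorProduct.lift_tmul]; rfl
  have hψs : Function.Surjective ψ := fun z => by
    obtain ⟨t, rfl⟩ := Ideal.Quotient.mk_surjective z
    exact ⟨1 ⊗ₜ t, by rw [hψ, map_one, one_mul]⟩
  let J := (maximalIdeal R).map (algebraMap R (R ⊗[W] T))
  have hker : RingHom.ker ψ.toRingHom = J := by
    apply le_antisymm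
    · intro z hz
      have hz' : ∀ z : R ⊗[W] T, ∃ t, z - (1 : R) ⊗ₜ[W] t ∈ J := fun z => by
        induction z using TensorProduct.induction_on with
        | zero => exact ⟨0, by simp⟩
        | add a b ha hb =>
          obtain ⟨s, hs⟩ := ha
          obtain ⟨t, ht⟩ := hb
          exact ⟨s + t, by rw [tmul_add]; convert add_mem hs ht using 1; ring⟩
        | tmul a t =>
          obtain ⟨w, hw⟩ := hρ (residue R a)
          refine ⟨w • t, ?_⟩
          rw [← smul_tmul, Algebra.smul_def, mul_one, ← sub_tmul,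
            show (a - algebraMap W R w) ⊗ₜ[W] t =
              algebraMap R (R ⊗[W] T) (a - algebraMap W R w) * (1 ⊗ₜ[W] t) by
              simp [Algebra.TensorProduct.algebraMap_apply]]
          refine Ideal.mul_mem_right _ _ (Ideal.mem_map_of_mem _ ?_)
          rw [← residue_eq_zero_iff, map_sub, sub_eq_zero, ← hw]
          exact (RingHom.congr_fun hhR w).symm
      obtain ⟨t, ht⟩ := hz' z
      have hJ : J ≤ RingHom.ker ψ.toRingHom := Ideal.map_le_iff_le_comap.2 fun a ha => by
        show ψ (a ⊗ₜ[W] 1) = 0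
        rw [hψ, hχm a ha, zero_mul]
      have h1 : ψ (1 ⊗ₜ[W] t) = 0 := by
        have h2 := RingHom.mem_ker.1 (hJ ht)
        rw [map_sub, RingHom.mem_ker.1 hz, zero_sub, neg_eq_zero] at h2
        exact h2
      rw [hψ, map_one, one_mul, Ideal.Quotient.eq_zero_iff_mem, hW.maximal, Ideal.map_span,
        Set.image_singleton, map_natCast, Ideal.mem_span_singleton'] at h1
      obtain ⟨c, rfl⟩ := h1
      have h3 : (1 : R) ⊗ₜ[W] (c * (q : T)) ∈ J := by
        have e : (1 : R) ⊗ₜ[W] (c * (q : T)) =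
            algebraMap R (R ⊗[W] T) (q : R) * (1 ⊗ₜ[W] c) := by
          rw [map_natCast, mul_comm c,
            ← map_natCast (Algebra.TensorProduct.includeRight : T →ₐ[W] R ⊗[W] T) q,
            Algebra.TensorProduct.includeRight_apply, Algebra.TensorProduct.tmul_mul_tmul, one_mul]
        rw [e]
        refine Ideal.mul_mem_right _ _ (Ideal.mem_map_of_mem _ ?_)
        rw [← residue_eq_zero_iff, map_natCast, CharP.cast_eq_zero]
      simpa using add_mem ht h3
    · exact Ideal.map_le_iff_le_comap.2 fun a ha => by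
        show ψ (a ⊗ₜ[W] 1) = 0
        rw [hψ, hχm a ha, zero_mul]
  have hnilJ : ∀ z ∈ J, IsNilpotent z := fun z hz => by
    obtain ⟨e, he⟩ := (isArtinianRing_iff_isNilpotent_maximalIdeal R).1 inferInstance
    refine ⟨e, ?_⟩
    have := Ideal.pow_mem_pow hz e
    rwa [← Ideal.map_pow, he, Ideal.zero_eq_bot, Ideal.map_bot, Ideal.mem_bot] at this
  have hloc : IsLocalRing (R ⊗[W] T) :=
    isLocalRing_of_nilpotent_ker ψ.toRingHom hψs fun a ha => hnilJ a (hker ▸ RingHom.mem_ker.2 ha)
  -- Noetherian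
  obtain ⟨m, x, hx⟩ := Submodule.fg_iff_exists_fin_generating_family.1
    (IsNoetherian.noetherian (maximalIdeal R))
  let Φ : MvPolynomial (Fin m) T →+* R ⊗[W] T :=
    MvPolynomial.eval₂Hom (Algebra.TensorProduct.includeRight : T →ₐ[W] R ⊗[W] T).toRingHom
      fun i => x i ⊗ₜ[W] 1
  have hΦ : Function.Surjective Φ := by
    let A : Subring R := Φ.range.comap (Algebra.TensorProduct.includeLeftRingHom : R →+* R ⊗[W] T)
    have hA : A = ⊤ := subring_eq_top A (fun a => by
      obtain ⟨w, hw⟩ := hρ (residue R a)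
      refine ⟨hR w, ⟨MvPolynomial.C (algebraMap W T w), ?_⟩, ?_⟩
      · show Φ (MvPolynomial.C (algebraMap W T w)) = algebraMap W R w ⊗ₜ[W] (1 : T)
        simp [Φ, Algebra.algebraMap_eq_smul_one, TensorProduct.smul_tmul]
      · rw [← residue_eq_zero_iff, map_sub, sub_eq_zero, ← hw]
        exact (RingHom.congr_fun hhR w).symm) x hx fun i =>
      ⟨MvPolynomial.X i, by simp [Φ, Algebra.TensorProduct.includeLeftRingHom]⟩
    intro z
    induction z using TensorProduct.induction_on with
    | zero => exact ⟨0, map_zero _⟩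
    | add a b ha hb =>
      obtain ⟨s, rfl⟩ := ha
      obtain ⟨t, rfl⟩ := hb
      exact ⟨s + t, map_add _ _ _⟩
    | tmul a t =>
      have ha : a ∈ A := hA ▸ Subring.mem_top a
      obtain ⟨p, hp⟩ := ha
      refine ⟨p * MvPolynomial.C t, ?_⟩
      rw [map_mul, hp]
      simp [Φ, Algebra.TensorProduct.includeLeftRingHom]
  haveI : IsNoetherianRing (R ⊗[W] T) := isNoetherianRing_of_surjective _ _ Φ hΦ
  haveI := hloc
  have hart : IsArtinianRing (R ⊗[W] T) := by
    refine (isArtinianRing_iff_isNilpotent_maximalIdeal _).2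
      ((Ideal.FG.isNilpotent_iff_le_nilradical (IsNoetherian.noetherian _)).2 fun z hz => ?_)
    have hF : ψ z ∈ maximalIdeal F := fun hu => hz (by
      haveI : IsLocalHom ψ.toRingHom := IsLocalHom.of_surjective _ hψs
      exact isUnit_of_map_unit ψ.toRingHom z hu)
    haveI : IsArtinianRing F := Ideal.Quotient.mk_surjective.isArtinianRing
    obtain ⟨e, he⟩ := (isArtinianRing_iff_isNilpotent_maximalIdeal F).1 inferInstance
    have h1 := Ideal.pow_mem_pow hF e
    rw [he, Ideal.zero_eq_bot, Ideal.mem_bot, ← map_pow] at h1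
    exact IsNilpotent.of_pow (hnilJ _ (hker ▸ RingHom.mem_ker.2 h1))
  refine ⟨R ⊗[W] T, inferInstance, inferInstance, hart, hloc, inferInstance, ⟨fun a ha => ?_⟩, ?_, ?_⟩
  · by_contra hna
    have h1 := ha.map ψ.toRingHom
    rw [show ψ.toRingHom (algebraMap R (R ⊗[W] T) a) = ψ (a ⊗ₜ[W] 1) from rfl, hψ, hχm a hna,
      zero_mul] at h1
    exact not_isUnit_zero h1
  · exact (GorFlat.gorenstein_congr
      ((Ideal.quotEquivOfEq hker.symm).trans (RingHom.quotientKerEquivOfSurjective hψs))).2 hGF
  · refine ⟨Algebra.TensorProduct.lift (Algebra.ofId R S) gT fun _ _ => Commute.all _ _, fun z => ?_⟩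
    obtain ⟨t, rfl⟩ := hg z
    exact ⟨1 ⊗ₜ t, by simp [gT]⟩

end GrothLib.ArtFactor
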